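/-
The two point stabiliser of the Rudvalis group on 4060 points.
-/
import Cfsg.Agent.Lib.Ru.Model

set_option autoImplicit false

namespace Cfsg.Lib.Comp.RuK

/-- the networks. -/
noncomputable abbrev nets : List Net := Rux.nets

theorem nets_ok : NetsOK 4096 nets := Rux.nets_ok

/-- the letters. -/
abbrev L : List ℕ := RuM.M2

theorem mem_all {x : ℕ} (h : x ∈ L) : gp nets x ∈ cl (gp nets) L := mem_cl h

theorem stab1 : (∀ g ∈ cl (gp nets) RuM.M1, g 1 = 1 ↔ g ∈ cl (gp nets) L) ∧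
    (∀ g ∈ cl (gp nets) RuM.M1, 1 ≤ g 1 ∧ g 1 < 1 + 2304) ∧
    (∀ p, 1 ≤ p → p < 1 + 2304 → ∃ g ∈ cl (gp nets) RuM.M1, g 1 = p) ∧ Nat.card (cl (gp nets) L) = 15600 := by
  obtain ⟨-, -, a, b, c, d⟩ := (RuM.exact.cons nets_ok).1.cons nets_ok
  rw [show Nat.card (cl (gp nets) RuM.M1) = _ from RuM.stab0.2] at d
  exact ⟨a, b, c, Nat.eq_of_mul_eq_mul_left (by norm_num : 0 < 2304) (d.symm.trans (by norm_num))⟩

theorem card : Nat.card (cl (gp nets) L) = 15600 := stab1.2.2.2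

end Cfsg.Lib.Comp.RuK
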